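import Mathlib.AlgebraicGeometry.Morphisms.Separated
import Mathlib.AlgebraicGeometry.Morphisms.Affine
import Mathlib.CategoryTheory.Limits.Shapes.Pullback.IsPullback.Basic

/-!
# Limits of levelwise pullbacks
-/

set_option autoImplicit false

universe u v

open CategoryTheory CategoryTheory.Limits AlgebraicGeometry

namespace Groth.Agent.EtSqLim

variable {J : Type v} [Category J] {A B C : J ⥤ Scheme.{u}} (a : A ⟶ C) (b : B ⟶ C)

/-- the levelwise pullback -/
noncomputable def pb : J ⥤ Scheme.{u} where
  obj j := pullback (a.app j) (b.app j)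
  map {i j} m := pullback.map (a.app i) (b.app i) (a.app j) (b.app j) (A.map m) (B.map m) (C.map m)
    (a.naturality m).symm (b.naturality m).symm
  map_id j := by apply pullback.hom_ext <;> simp
  map_comp {i j k} m n := by
    apply pullback.hom_ext
    · refine (pullback.lift_fst _ _ _).trans (Eq.symm ((Category.assoc _ _ _).trans
        ((whisker_eq _ (pullback.lift_fst _ _ _)).trans ?_)))
      refine (Category.assoc _ _ _).symm.trans ((eq_whisker (pullback.lift_fst _ _ _) _).trans ?_)
      rw [Category.assoc, Functor.map_comp]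
    · refine (pullback.lift_snd _ _ _).trans (Eq.symm ((Category.assoc _ _ _).trans
        ((whisker_eq _ (pullback.lift_snd _ _ _)).trans ?_)))
      refine (Category.assoc _ _ _).symm.trans ((eq_whisker (pullback.lift_snd _ _ _) _).trans ?_)
      rw [Category.assoc, Functor.map_comp]

/-- the first projection -/
noncomputable def pbFst : pb a b ⟶ A where
  app j := pullback.fst (a.app j) (b.app j)
  naturality _ _ _ := pullback.lift_fst _ _ _

/-- the second projection -/
noncomputable def pbSnd : pb a b ⟶ B where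
  app j := pullback.snd (a.app j) (b.app j)
  naturality _ _ _ := pullback.lift_snd _ _ _

theorem isAffineHom_pb_map {i j : J} (m : i ⟶ j) [IsAffineHom (A.map m)] [IsAffineHom (B.map m)]
    [IsSeparated (C.map m)] : IsAffineHom ((pb a b).map m) := by
  let d := pullback.mapDesc (a.app i) (b.app i) (C.map m)
  have w₁ : (a.app i ≫ C.map m) ≫ 𝟙 _ = A.map m ≫ a.app j := by rw [Category.comp_id, a.naturality]
  have w₂ : (b.app i ≫ C.map m) ≫ 𝟙 _ = B.map m ≫ b.app j := by rw [Category.comp_id, b.naturality]
  let e := pullback.map (a.app i ≫ C.map m) (b.app i ≫ C.map m) (a.app j) (b.app j) (A.map m) (B.map m) (𝟙 _) w₁ w₂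
  have he : (pb a b).map m = d ≫ e := by
    apply pullback.hom_ext
    · refine (pullback.lift_fst _ _ _).trans (Eq.symm ((Category.assoc _ _ _).trans
        ((whisker_eq _ (pullback.lift_fst _ _ _)).trans ?_)))
      exact (Category.assoc _ _ _).symm.trans (eq_whisker ((pullback.lift_fst _ _ _).trans (Category.comp_id _)) _)
    · refine (pullback.lift_snd _ _ _).trans (Eq.symm ((Category.assoc _ _ _).trans
        ((whisker_eq _ (pullback.lift_snd _ _ _)).trans ?_)))
      exact (Category.assoc _ _ _).symm.trans (eq_whisker ((pullback.lift_snd _ _ _).trans (Category.comp_id _)) _)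
  have : IsAffineHom e := MorphismProperty.pullbackMap (P := @IsAffineHom) (f := a.app i ≫ C.map m)
    (g := b.app i ≫ C.map m) (f' := a.app j) (g' := b.app j) (i₁ := A.map m) (i₂ := B.map m) ‹_› ‹_›
    (a.naturality m).symm (b.naturality m).symm
  haveI hd : IsClosedImmersion d := inferInstanceAs (IsClosedImmersion (pullback.mapDesc _ _ _))
  rw [he]
  exact MorphismProperty.comp_mem @IsAffineHom d e inferInstance this

variable {cA : Cone A} {cB : Cone B} {cC : Cone C} (aI : cA.pt ⟶ cC.pt) (bI : cB.pt ⟶ cC.pt)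
  (ha : ∀ j, aI ≫ cC.π.app j = cA.π.app j ≫ a.app j) (hb : ∀ j, bI ≫ cC.π.app j = cB.π.app j ≫ b.app j)
  {P : Scheme.{u}} (p : P ⟶ cA.pt) (q : P ⟶ cB.pt) (sq : IsPullback p q aI bI)

include ha hb sq in
theorem pb_cond (j : J) : (p ≫ cA.π.app j) ≫ a.app j = (q ≫ cB.π.app j) ≫ b.app j := by
  rw [Category.assoc, ← ha, Category.assoc, ← hb, sq.w_assoc]

/-- the cone on the pullback of the limits -/
noncomputable def pbCone : Cone (pb a b) where
  pt := P
  π :=
    { app := fun j => pullback.lift (p ≫ cA.π.app j) (q ≫ cB.π.app j) (pb_cond a b aI bI ha hb p q sq j)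
      naturality := fun i j m => by
        refine (Category.id_comp _).trans ?_
        apply pullback.hom_ext
        · refine (pullback.lift_fst _ _ _).trans (Eq.symm ((Category.assoc _ _ _).trans
            ((whisker_eq _ (pullback.lift_fst _ _ _)).trans ?_)))
          exact (Category.assoc _ _ _).symm.trans ((eq_whisker (pullback.lift_fst _ _ _) _).trans
            ((Category.assoc _ _ _).trans (whisker_eq p (cA.w m))))
        · refine (pullback.lift_snd _ _ _).trans (Eq.symm ((Category.assoc _ _ _).trans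
            ((whisker_eq _ (pullback.lift_snd _ _ _)).trans ?_)))
          exact (Category.assoc _ _ _).symm.trans ((eq_whisker (pullback.lift_snd _ _ _) _).trans
            ((Category.assoc _ _ _).trans (whisker_eq q (cB.w m)))) }

theorem pbCone_fst (j : J) : (pbCone a b aI bI ha hb p q sq).π.app j ≫ (pbFst a b).app j = p ≫ cA.π.app j :=
  pullback.lift_fst _ _ _

theorem pbCone_snd (j : J) : (pbCone a b aI bI ha hb p q sq).π.app j ≫ (pbSnd a b).app j = q ≫ cB.π.app j :=
  pullback.lift_snd _ _ _

/-- it is a limit -/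
noncomputable def isLimitPbCone (hA : IsLimit cA) (hB : IsLimit cB) (hC : IsLimit cC) :
    IsLimit (pbCone a b aI bI ha hb p q sq) :=
  let lA : Cone (pb a b) → Cone A := fun s => (Cone.postcompose (pbFst a b)).obj s
  let lB : Cone (pb a b) → Cone B := fun s => (Cone.postcompose (pbSnd a b)).obj s
  have hlA : ∀ (s : Cone (pb a b)) j, hA.lift (lA s) ≫ cA.π.app j = s.π.app j ≫ (pbFst a b).app j :=
    fun s j => hA.fac (lA s) j
  have hlB : ∀ (s : Cone (pb a b)) j, hB.lift (lB s) ≫ cB.π.app j = s.π.app j ≫ (pbSnd a b).app j :=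
    fun s j => hB.fac (lB s) j
  have hw : ∀ s : Cone (pb a b), hA.lift (lA s) ≫ aI = hB.lift (lB s) ≫ bI := fun s => hC.hom_ext fun j => by
    rw [Category.assoc, ha, Category.assoc, hb, reassoc_of% (hlA s j), reassoc_of% (hlB s j)]
    exact whisker_eq (s.π.app j) pullback.condition
  { lift := fun s => sq.lift (hA.lift (lA s)) (hB.lift (lB s)) (hw s)
    fac := fun s j => by
      apply pullback.hom_ext
      · refine (Category.assoc _ _ _).trans ((whisker_eq _ (pbCone_fst a b aI bI ha hb p q sq j)).trans ?_)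
        exact (Category.assoc _ _ _).symm.trans ((eq_whisker (sq.lift_fst _ _ _) _).trans (hlA s j))
      · refine (Category.assoc _ _ _).trans ((whisker_eq _ (pbCone_snd a b aI bI ha hb p q sq j)).trans ?_)
        exact (Category.assoc _ _ _).symm.trans ((eq_whisker (sq.lift_snd _ _ _) _).trans (hlB s j))
    uniq := fun s m hm => sq.hom_ext
      ((hA.hom_ext fun j => by
        rw [sq.lift_fst, hlA, ← hm j, Category.assoc, Category.assoc]
        exact whisker_eq m (pbCone_fst a b aI bI ha hb p q sq j).symm))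
      ((hB.hom_ext fun j => by
        rw [sq.lift_snd, hlB, ← hm j, Category.assoc, Category.assoc]
        exact whisker_eq m (pbCone_snd a b aI bI ha hb p q sq j).symm)) }

section Map

variable {B' : J ⥤ Scheme.{u}} (b' : B' ⟶ C) (θ : B' ⟶ B) (hθ : ∀ j, θ.app j ≫ b.app j = b'.app j)

/-- functoriality in the second family -/
noncomputable def pbMap : pb a b' ⟶ pb a b where
  app j := pullback.lift (pullback.fst _ _) (pullback.snd _ _ ≫ θ.app j)
    (pullback.condition.trans ((whisker_eq _ (hθ j).symm).trans (Category.assoc _ _ _).symm))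
  naturality i j k := by
    apply pullback.hom_ext
    · refine (Category.assoc _ _ _).trans ((whisker_eq _ (pullback.lift_fst _ _ _)).trans ?_)
      refine (pullback.lift_fst _ _ _).trans (Eq.symm ((Category.assoc _ _ _).trans
        ((whisker_eq _ (pullback.lift_fst _ _ _)).trans ?_)))
      exact (Category.assoc _ _ _).symm.trans (eq_whisker (pullback.lift_fst _ _ _) _)
    · refine (Category.assoc _ _ _).trans ((whisker_eq _ (pullback.lift_snd _ _ _)).trans ?_)
      refine ((Category.assoc _ _ _).symm.trans (eq_whisker (pullback.lift_snd _ _ _) _)).trans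
        (Eq.symm ((Category.assoc _ _ _).trans ((whisker_eq _ (pullback.lift_snd _ _ _)).trans ?_)))
      refine (Category.assoc _ _ _).symm.trans ((eq_whisker (pullback.lift_snd _ _ _) _).trans ?_)
      exact (Category.assoc _ _ _).trans ((whisker_eq _ (θ.naturality k).symm).trans (Category.assoc _ _ _).symm)

theorem pbMap_fst (j : J) : (pbMap a b b' θ hθ).app j ≫ (pbFst a b).app j = (pbFst a b').app j :=
  pullback.lift_fst _ _ _

theorem pbMap_snd (j : J) : (pbMap a b b' θ hθ).app j ≫ (pbSnd a b).app j = (pbSnd a b').app j ≫ θ.app j :=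
  pullback.lift_snd _ _ _

variable {cB' : Cone B'} (bI' : cB'.pt ⟶ cC.pt) (hb' : ∀ j, bI' ≫ cC.π.app j = cB'.π.app j ≫ b'.app j)
  {P' : Scheme.{u}} (p' : P' ⟶ cA.pt) (q' : P' ⟶ cB'.pt) (sq' : IsPullback p' q' aI bI')
  (ν : cB'.pt ⟶ cB.pt) (hν : ∀ j, cB'.π.app j ≫ θ.app j = ν ≫ cB.π.app j)
  (m : P' ⟶ P) (hm₁ : m ≫ p = p') (hm₂ : m ≫ q = q' ≫ ν)

include hν hm₁ hm₂ in
theorem pbCone_pbMap (j : J) :
    (pbCone a b' aI bI' ha hb' p' q' sq').π.app j ≫ (pbMap a b b' θ hθ).app j =
      m ≫ (pbCone a b aI bI ha hb p q sq).π.app j := by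
  apply pullback.hom_ext
  · refine ((Category.assoc _ _ _).trans (whisker_eq _ (pbMap_fst a b b' θ hθ j))).trans
      ((pbCone_fst a b' aI bI' ha hb' p' q' sq' j).trans ?_)
    exact ((eq_whisker hm₁ _).symm.trans (Category.assoc _ _ _)).trans
      ((whisker_eq m (pbCone_fst a b aI bI ha hb p q sq j).symm).trans (Category.assoc _ _ _).symm)
  · refine ((Category.assoc _ _ _).trans (whisker_eq _ (pbMap_snd a b b' θ hθ j))).trans ?_
    refine ((Category.assoc _ _ _).symm.trans (eq_whisker (pbCone_snd a b' aI bI' ha hb' p' q' sq' j) _)).trans ?_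
    refine (Category.assoc _ _ _).trans ((whisker_eq q' (hν j)).trans ((Category.assoc _ _ _).symm.trans ?_))
    refine (eq_whisker hm₂.symm _).trans ((Category.assoc _ _ _).trans ?_)
    exact (whisker_eq m (pbCone_snd a b aI bI ha hb p q sq j).symm).trans (Category.assoc _ _ _).symm

end Map

end Groth.Agent.EtSqLim
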