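import Groth.Agent.EtPBC0.StrictBC
import Groth.Agent.Hensel.Limits
import Groth.Prelude.Def_Hens2

/-!
# Strict henselizations along a limit of schemes
-/

set_option autoImplicit false
set_option linter.style.haveILetI false

universe u

open CategoryTheory CategoryTheory.Limits AlgebraicGeometry Opposite IsLocalRing

namespace Groth.Agent.EtSqLim

/-- A separable algebraic element lands in every separably closed intermediate field. -/
theorem mem_range_of_sepClosed {k K L M : Type u} [Field k] [Field K] [Field L] [Field M] [IsSepClosed L]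
    [Algebra k K] [Algebra.IsSeparable k K] (a : k →+* L) (c : L →+* M) (b : K →+* M)
    (h : c.comp a = b.comp (algebraMap k K)) (x : K) : b x ∈ c.range := by
  have hp : (minpoly k x).Separable := Algebra.IsSeparable.isSeparable k x
  refine (IsSepClosed.splits_codomain (f := a) _ hp).mem_range_of_isRoot
    (Polynomial.map_ne_zero hp.ne_zero) ?_
  rw [Polynomial.map_map, h, ← Polynomial.map_map, Polynomial.IsRoot, Polynomial.eval_map_apply,
    Polynomial.eval_map_algebraMap, minpoly.aeval, map_zero]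

/-- A ring map with values in the range of an injective ring map factors through it. -/
theorem exists_factor_field {K L M : Type u} [Field K] [Field L] [Field M] (c : L →+* M) (b : K →+* M)
    (h : ∀ x, b x ∈ c.range) : ∃ τ : K →+* L, c.comp τ = b :=
  ⟨((RingEquiv.ofBijective c.rangeRestrict ⟨fun _ _ e => c.injective (congrArg Subtype.val e),
      c.rangeRestrict_surjective⟩).symm.toRingHom).comp (b.codRestrict c.range h),
    RingHom.ext fun x => congrArg Subtype.val
      ((RingEquiv.ofBijective c.rangeRestrict ⟨fun _ _ e => c.injective (congrArg Subtype.val e),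
        c.rangeRestrict_surjective⟩).apply_symm_apply (b.codRestrict c.range h x))⟩

theorem isLocalHom_of_residue {R S : Type u} [CommRing R] [IsLocalRing R] [CommRing S] [IsLocalRing S] (g : R →+* S)
    (τ : ResidueField R →+* ResidueField S) (h : ∀ x, residue S (g x) = τ (residue R x)) : IsLocalHom g :=
  ⟨fun x hx => by
    by_contra hux
    have h1 := h x
    rw [(residue_eq_zero_iff x).2 hux, map_zero] at h1
    exact (residue_eq_zero_iff (g x)).1 h1 hx⟩

theorem residueMap_comp {R S T : Type u} [CommRing R] [IsLocalRing R] [CommRing S] [IsLocalRing S] [CommRing T]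
    [IsLocalRing T] (f : R →+* S) (g : S →+* T) (h : R →+* T) [IsLocalHom f] [IsLocalHom g] [IsLocalHom h]
    (e : g.comp f = h) : (ResidueField.map g).comp (ResidueField.map f) = ResidueField.map h := by
  subst e
  exact (ResidueField.map_comp f g).symm

section Factor

variable {A B RA RB RX : Type u} [CommRing A] [IsLocalRing A] [CommRing B] [IsLocalRing B] (φ : A →+* B) [IsLocalHom φ]
  [CommRing RA] [IsLocalRing RA] [Algebra A RA] [IsLocalHom (algebraMap A RA)] [Hensel.IsStrictHenselization A RA]
  [CommRing RB] [HenselianLocalRing RB] [IsSepClosed (ResidueField RB)] [Algebra B RB] [IsLocalHom (algebraMap B RB)]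
  [CommRing RX] [HenselianLocalRing RX] (κ : RB →+* RX) [IsLocalHom κ] (γ : RA →+* RX) [IsLocalHom γ]

/-- Maps of strict henselizations inside a third one. -/
theorem existsUnique_factor (w : γ.comp (algebraMap A RA) = (κ.comp (algebraMap B RB)).comp φ) :
    ∃! ψ : RA →+* RB, ψ.comp (algebraMap A RA) = (algebraMap B RB).comp φ ∧ κ.comp ψ = γ := by
  haveI := (Hensel.IsStrictHenselization.isSepClosure (R := A) (S := RA)).separable
  let f : A →+* RB := (algebraMap B RB).comp φ
  haveI : IsLocalHom f := RingHom.isLocalHom_comp _ _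
  haveI : IsLocalHom (γ.comp (algebraMap A RA)) := RingHom.isLocalHom_comp _ _
  have hres : (ResidueField.map κ).comp (ResidueField.map f) =
      (ResidueField.map γ).comp (algebraMap (ResidueField A) (ResidueField RA)) := by
    refine (residueMap_comp f κ (γ.comp (algebraMap A RA)) ?_).trans (residueMap_comp _ γ _ rfl).symm
    exact (RingHom.comp_assoc _ _ _).symm.trans w.symm
  obtain ⟨τ, hτ⟩ := exists_factor_field (ResidueField.map κ) (ResidueField.map γ)
    (mem_range_of_sepClosed (ResidueField.map f) (ResidueField.map κ) (ResidueField.map γ) hres)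
  have hτf : τ.comp (ResidueField.map (algebraMap A RA)) = ResidueField.map f := by
    refine RingHom.ext fun a => (ResidueField.map κ).injective ?_
    exact (congrArg (fun r : ResidueField RA →+* ResidueField RX => r _) hτ).trans (RingHom.congr_fun hres a).symm
  obtain ⟨ψ, ⟨h₁, h₂⟩, huniq⟩ := Hensel.IsStrictHenselization.universal (R := A) (S := RA) RB f τ hτf
  haveI := isLocalHom_of_residue ψ τ h₂
  haveI : IsLocalHom (κ.comp ψ) := RingHom.isLocalHom_comp _ _
  have hκψ : κ.comp ψ = γ := by
    obtain ⟨g, -, hg⟩ := Hensel.IsStrictHenselization.universal (R := A) (S := RA) RX (γ.comp (algebraMap A RA))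
      (ResidueField.map γ) (residueMap_comp _ γ _ rfl)
    refine (hg (κ.comp ψ) ⟨?_, fun x => ?_⟩).trans (hg γ ⟨rfl, fun x => (ResidueField.map_residue γ x).symm⟩).symm
    · rw [RingHom.comp_assoc, h₁, w, RingHom.comp_assoc]
    · rw [RingHom.comp_apply, ← ResidueField.map_residue κ, h₂ x]
      exact RingHom.congr_fun hτ _
  refine ⟨ψ, ⟨h₁, hκψ⟩, ?_⟩
  rintro ψ' ⟨h₁', hκψ'⟩
  haveI : IsLocalHom ψ' := ⟨fun x hx => IsUnit.of_map γ x (hκψ' ▸ hx.map κ)⟩
  refine huniq ψ' ⟨h₁', fun x => (ResidueField.map κ).injective ?_⟩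
  rw [ResidueField.map_residue]
  exact (congrArg (residue RX) (RingHom.congr_fun hκψ' x)).trans
    ((ResidueField.map_residue γ x).symm.trans (RingHom.congr_fun hτ _).symm)

end Factor

section Geometric

theorem spec_eq_iff {Y Z : Scheme.{u}} (f : Y ⟶ Z) (y : Y) {A T : Type u} [CommRing A] [CommRing T]
    [Algebra (Z.presheaf.stalk (f.base y)) A] (γ : A →+* T) (b : Y.presheaf.stalk y →+* T) :
    Spec.map (CommRingCat.ofHom γ) ≫ Hens2.specOf Z (f.base y) A =
        Spec.map (CommRingCat.ofHom b) ≫ Y.fromSpecStalk y ≫ f ↔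
      γ.comp (algebraMap (Z.presheaf.stalk (f.base y)) A) = b.comp (f.stalkMap y).hom := by
  rw [← Scheme.SpecMap_stalkMap_fromSpecStalk]
  simp only [Hens2.specOf, ← Category.assoc, ← Spec.map_comp]
  rw [cancel_mono, Spec.map_inj]
  exact ⟨congrArg CommRingCat.Hom.hom, fun h => CommRingCat.hom_ext h⟩

variable {Y Z : Scheme.{u}} (f : Y ⟶ Z) (y : Y) (z : Z) (hz : f.base y = z)
  {RZ RY RX : Type u} [CommRing RZ] [IsLocalRing RZ] [Algebra (Z.presheaf.stalk z) RZ]
  [IsLocalHom (algebraMap (Z.presheaf.stalk z) RZ)] [Hensel.IsStrictHenselization (Z.presheaf.stalk z) RZ]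
  [CommRing RY] [HenselianLocalRing RY] [IsSepClosed (ResidueField RY)] [Algebra (Y.presheaf.stalk y) RY]
  [IsLocalHom (algebraMap (Y.presheaf.stalk y) RY)]
  [CommRing RX] [HenselianLocalRing RX] (κ : RY →+* RX) [IsLocalHom κ] (γ : RZ →+* RX) [IsLocalHom γ]

include hz in
/-- The same in terms of morphisms of spectra. -/
theorem existsUnique_factor_spec
    (w : Spec.map (CommRingCat.ofHom γ) ≫ Hens2.specOf Z z RZ =
      Spec.map (CommRingCat.ofHom κ) ≫ Hens2.specOf Y y RY ≫ f) :
    ∃! ψ : RZ →+* RY,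
      Spec.map (CommRingCat.ofHom ψ) ≫ Hens2.specOf Z z RZ = Hens2.specOf Y y RY ≫ f ∧ κ.comp ψ = γ := by
  subst hz
  have e : ∀ {T : Type u} [CommRing T] (k : RY →+* T),
      Spec.map (CommRingCat.ofHom k) ≫ Hens2.specOf Y y RY ≫ f =
        Spec.map (CommRingCat.ofHom (k.comp (algebraMap (Y.presheaf.stalk y) RY))) ≫ Y.fromSpecStalk y ≫ f := by
    intro T _ k
    rw [Hens2.specOf, CommRingCat.ofHom_comp, Spec.map_comp, Category.assoc, Category.assoc]
  have e₀ : Hens2.specOf Y y RY ≫ f =
      Spec.map (CommRingCat.ofHom (algebraMap (Y.presheaf.stalk y) RY)) ≫ Y.fromSpecStalk y ≫ f := Category.assoc _ _ _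
  refine (existsUnique_congr fun ψ => and_congr_left fun _ => ?_).2
    (existsUnique_factor (f.stalkMap y).hom κ γ ((spec_eq_iff f y γ _).1 (w.trans (e κ))))
  rw [e₀]
  exact spec_eq_iff f y ψ _

end Geometric

/-- strict henselization is henselian with separably closed residue field -/
theorem strictHenz_data (A : Type u) [CommRing A] [IsLocalRing A] :
    HenselianLocalRing (Hensel.StrictHenz A) ∧ IsSepClosed (ResidueField (Hensel.StrictHenz A)) :=
  ⟨Hensel.IsStrictHenselization.henselian (R := A), (Hensel.isSepClosure_residueField_strictHenz A).sep_closed⟩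

section System

variable {ι : Type u} [Preorder ι] (Xs : ιᵒᵖ ⥤ Scheme.{u}) (c : Cone Xs) (x : c.pt)
  (xs : ∀ i : ι, Xs.obj (op i)) (hxs : ∀ i, (c.π.app (op i)).base x = xs i)
  (RX : Type u) [CommRing RX] [IsLocalRing RX] [Algebra (c.pt.presheaf.stalk x) RX]
  [IsLocalHom (algebraMap (c.pt.presheaf.stalk x) RX)] [Hensel.IsStrictHenselization (c.pt.presheaf.stalk x) RX]

/-- the strict henselization at a stage -/
abbrev Ring' (i : ι) : Type u := Hensel.StrictHenz ((Xs.obj (op i)).presheaf.stalk (xs i))

include hxs in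
theorem exists_toLim (i : ι) : ∃ κ : Ring' Xs xs i →+* RX, IsLocalHom κ ∧
    Spec.map (CommRingCat.ofHom κ) ≫ Hens2.specOf (Xs.obj (op i)) (xs i) (Ring' Xs xs i) =
      Hens2.specOf c.pt x RX ≫ c.π.app (op i) := by
  haveI : HenselianLocalRing RX := Hensel.IsStrictHenselization.henselian (R := c.pt.presheaf.stalk x)
  haveI : IsSepClosed (ResidueField RX) :=
    (Hensel.IsStrictHenselization.isSepClosure (R := c.pt.presheaf.stalk x) (S := RX)).sep_closed
  let p : c.pt ⟶ Xs.obj (op i) := c.π.app (op i)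
  have key : ∀ (z : Xs.obj (op i)), p.base x = z →
      ∃ κ : Hensel.StrictHenz ((Xs.obj (op i)).presheaf.stalk z) →+* RX, IsLocalHom κ ∧
        Spec.map (CommRingCat.ofHom κ) ≫ Hens2.specOf (Xs.obj (op i)) z _ = Hens2.specOf c.pt x RX ≫ p := by
    rintro z rfl
    obtain ⟨κ, h₁, h₂⟩ := EtPBC0.exists_strictHenz_hom (p.stalkMap x).hom
      (Hensel.StrictHenz ((Xs.obj (op i)).presheaf.stalk (p.base x))) RX
    haveI := h₁
    exact ⟨κ, h₁, (EtPBC0.specOf_comp p x _ RX κ h₂).symm⟩
  exact key (xs i) (hxs i)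

/-- the map to the limit -/
noncomputable def toLim (i : ι) : Ring' Xs xs i →+* RX := (exists_toLim Xs c x xs hxs RX i).choose

instance isLocalHom_toLim (i : ι) : IsLocalHom (toLim Xs c x xs hxs RX i) :=
  (exists_toLim Xs c x xs hxs RX i).choose_spec.1

theorem toLim_spec (i : ι) : Spec.map (CommRingCat.ofHom (toLim Xs c x xs hxs RX i)) ≫
    Hens2.specOf (Xs.obj (op i)) (xs i) (Ring' Xs xs i) = Hens2.specOf c.pt x RX ≫ c.π.app (op i) :=
  (exists_toLim Xs c x xs hxs RX i).choose_spec.2

include hxs in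
theorem tr_point {i j : ι} (h : i ≤ j) : (Xs.map (homOfLE h).op).base (xs j) = xs i := by
  rw [← hxs j, ← hxs i, ← Scheme.Hom.comp_apply]
  exact congrArg (fun p : c.pt ⟶ Xs.obj (op i) => p.base x) (c.w (homOfLE h).op)

theorem existsUnique_trans {i j : ι} (h : i ≤ j) : ∃! T : Ring' Xs xs i →+* Ring' Xs xs j,
    Spec.map (CommRingCat.ofHom T) ≫ Hens2.specOf (Xs.obj (op i)) (xs i) (Ring' Xs xs i) =
        Hens2.specOf (Xs.obj (op j)) (xs j) (Ring' Xs xs j) ≫ Xs.map (homOfLE h).op ∧
      (toLim Xs c x xs hxs RX j).comp T = toLim Xs c x xs hxs RX i := by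
  haveI := (strictHenz_data ((Xs.obj (op j)).presheaf.stalk (xs j))).1
  haveI := (strictHenz_data ((Xs.obj (op j)).presheaf.stalk (xs j))).2
  haveI : HenselianLocalRing RX := Hensel.IsStrictHenselization.henselian (R := c.pt.presheaf.stalk x)
  refine existsUnique_factor_spec (Xs.map (homOfLE h).op) (xs j) (xs i) (tr_point Xs c x xs hxs h) _ _ ?_
  exact (toLim_spec Xs c x xs hxs RX i).trans ((whisker_eq _ (c.w (homOfLE h).op).symm).trans
    ((Category.assoc _ _ _).symm.trans ((eq_whisker (toLim_spec Xs c x xs hxs RX j).symm _).trans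
      (Category.assoc _ _ _))))

/-- transition maps -/
noncomputable def trans {i j : ι} (h : i ≤ j) : Ring' Xs xs i →+* Ring' Xs xs j :=
  (existsUnique_trans Xs c x xs hxs RX h).exists.choose

theorem trans_spec {i j : ι} (h : i ≤ j) : Spec.map (CommRingCat.ofHom (trans Xs c x xs hxs RX h)) ≫
    Hens2.specOf (Xs.obj (op i)) (xs i) (Ring' Xs xs i) =
      Hens2.specOf (Xs.obj (op j)) (xs j) (Ring' Xs xs j) ≫ Xs.map (homOfLE h).op :=
  (existsUnique_trans Xs c x xs hxs RX h).exists.choose_spec.1

theorem toLim_trans {i j : ι} (h : i ≤ j) :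
    (toLim Xs c x xs hxs RX j).comp (trans Xs c x xs hxs RX h) = toLim Xs c x xs hxs RX i :=
  (existsUnique_trans Xs c x xs hxs RX h).exists.choose_spec.2

theorem trans_self (i : ι) : trans Xs c x xs hxs RX (le_refl i) = RingHom.id _ := by
  refine (existsUnique_trans Xs c x xs hxs RX (le_refl i)).unique
    ⟨trans_spec Xs c x xs hxs RX _, toLim_trans Xs c x xs hxs RX _⟩ ⟨?_, RingHom.comp_id _⟩
  rw [CommRingCat.ofHom_id, Spec.map_id, Category.id_comp,
    show (homOfLE (le_refl i)).op = 𝟙 (op i) from rfl, CategoryTheory.Functor.map_id, Category.comp_id]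

theorem trans_trans {i j k : ι} (hij : i ≤ j) (hjk : j ≤ k) :
    (trans Xs c x xs hxs RX hjk).comp (trans Xs c x xs hxs RX hij) = trans Xs c x xs hxs RX (hij.trans hjk) := by
  refine (existsUnique_trans Xs c x xs hxs RX (hij.trans hjk)).unique ⟨?_, ?_⟩
    ⟨trans_spec Xs c x xs hxs RX _, toLim_trans Xs c x xs hxs RX _⟩
  · rw [CommRingCat.ofHom_comp, Spec.map_comp, Category.assoc, trans_spec, ← Category.assoc, trans_spec,
      Category.assoc, ← Functor.map_comp]
    rfl
  · rw [← RingHom.comp_assoc, toLim_trans, toLim_trans]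

/-- the inverse system of strict localizations -/
noncomputable def specSys : ιᵒᵖ ⥤ Scheme.{u} where
  obj a := Spec (CommRingCat.of (Ring' Xs xs a.unop))
  map m := Spec.map (CommRingCat.ofHom (trans Xs c x xs hxs RX (leOfHom m.unop)))
  map_id a := by rw [trans_self, CommRingCat.ofHom_id, Spec.map_id]
  map_comp {a b d} m n := by rw [← Spec.map_comp, ← CommRingCat.ofHom_comp, trans_trans]

/-- the cone on the strict localization of the limit -/
noncomputable def specCone : Cone (specSys Xs c x xs hxs RX) where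
  pt := Spec (CommRingCat.of RX)
  π :=
    { app := fun a => Spec.map (CommRingCat.ofHom (toLim Xs c x xs hxs RX a.unop))
      naturality := fun a b m => by
        refine (Category.id_comp _).trans ?_
        show _ = _ ≫ Spec.map (CommRingCat.ofHom (trans Xs c x xs hxs RX (leOfHom m.unop)))
        rw [← Spec.map_comp, ← CommRingCat.ofHom_comp, toLim_trans] }

end System

end Groth.Agent.EtSqLim
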