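import Groth.Agent.EtSqLim.Henz

/-!
# The strict localization of a limit is the limit of the strict localizations
-/

set_option autoImplicit false
set_option linter.style.haveILetI false

universe u

open CategoryTheory CategoryTheory.Limits AlgebraicGeometry Opposite IsLocalRing

namespace Groth.Agent.EtSqLim

set_option backward.isDefEq.respectTransparency.types false

theorem closedPoint_spec {R S : Type u} [CommRing R] [IsLocalRing R] [CommRing S] [IsLocalRing S] (α : R →+* S)
    [IsLocalHom α] : (Spec.map (CommRingCat.ofHom α)).base (closedPoint S) = closedPoint R :=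
  AlgebraicGeometry.Spec_closedPoint (f := CommRingCat.ofHom α)

/-- A cocone of rings is a colimit when it is on elements. -/
noncomputable def isColimitOfElems {ι : Type u} [Preorder ι] [Nonempty ι] [IsDirected ι (· ≤ ·)]
    {K : ι ⥤ CommRingCat.{u}} (cc : Cocone K) (hs : ∀ b : cc.pt, ∃ i, ∃ a : K.obj i, cc.ι.app i a = b)
    (hi : ∀ i (a b : K.obj i), cc.ι.app i a = cc.ι.app i b → ∃ j, ∃ h : i ≤ j, K.map (homOfLE h) a = K.map (homOfLE h) b) :
    IsColimit cc :=
  haveI : IsFiltered ι := isFiltered_of_directed_le_nonempty ι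
  haveI : ReflectsColimit K (forget CommRingCat.{u}) := reflectsColimit_of_reflectsIsomorphisms K _
  isColimitOfReflects (forget CommRingCat.{u}) (Types.FilteredColimit.isColimitOf' _ _
    (fun b => (hs b).imp fun _ h => h.imp fun _ e => e.symm)
    fun i a b e => (hi i a b e).imp fun _ h => ⟨homOfLE h.1, h.2⟩)

variable {ι : Type u} [Preorder ι] [Nonempty ι] [IsDirected ι (· ≤ ·)] (Xs : ιᵒᵖ ⥤ Scheme.{u}) (c : Cone Xs) (x : c.pt)
  (xs : ∀ i : ι, Xs.obj (op i)) (hxs : ∀ i, (c.π.app (op i)).base x = xs i)
  (RX : Type u) [CommRing RX] [IsLocalRing RX] [Algebra (c.pt.presheaf.stalk x) RX]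
  [IsLocalHom (algebraMap (c.pt.presheaf.stalk x) RX)] [Hensel.IsStrictHenselization (c.pt.presheaf.stalk x) RX]

/-- the direct limit of the strict henselizations -/
abbrev Colim : Type u :=
  Ring.DirectLimit (Ring' Xs xs) fun _ _ h => ⇑(trans Xs c x xs hxs RX h)

instance directedSystem_trans : DirectedSystem (Ring' Xs xs) fun _ _ h => ⇑(trans Xs c x xs hxs RX h) where
  map_self i a := by rw [trans_self]; rfl
  map_map _ _ _ hij hjk a := RingHom.congr_fun (trans_trans Xs c x xs hxs RX hij hjk) a

theorem isLocalHom_trans {i j : ι} (h : i ≤ j) : IsLocalHom (trans Xs c x xs hxs RX h) :=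
  ⟨fun a ha => IsUnit.of_map (toLim Xs c x xs hxs RX i) a
    (toLim_trans Xs c x xs hxs RX h ▸ ha.map (toLim Xs c x xs hxs RX j))⟩

/-- the comparison with the strict henselization of the limit -/
noncomputable def colimToLim : Colim Xs c x xs hxs RX →+* RX :=
  Ring.DirectLimit.lift _ _ _ (fun i => toLim Xs c x xs hxs RX i)
    fun _ _ h a => RingHom.congr_fun (toLim_trans Xs c x xs hxs RX h) a

/-- the inclusion of a stage -/
noncomputable def ofStage (i : ι) : Ring' Xs xs i →+* Colim Xs c x xs hxs RX :=
  Ring.DirectLimit.of (Ring' Xs xs) (fun _ _ h => ⇑(trans Xs c x xs hxs RX h)) i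

theorem colimToLim_ofStage (i : ι) :
    (colimToLim Xs c x xs hxs RX).comp (ofStage Xs c x xs hxs RX i) = toLim Xs c x xs hxs RX i :=
  RingHom.ext fun a => by
    simp only [colimToLim, ofStage, RingHom.comp_apply]
    exact Ring.DirectLimit.lift_of _ _ _ _ _

theorem ofStage_trans {i j : ι} (h : i ≤ j) :
    (ofStage Xs c x xs hxs RX j).comp (trans Xs c x xs hxs RX h) = ofStage Xs c x xs hxs RX i :=
  RingHom.ext fun a => Ring.DirectLimit.of_f (f := fun i j h => trans Xs c x xs hxs RX h) h a

variable {c} (hc : IsLimit c)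

include hc in
theorem bijective_colimToLim : Function.Bijective (colimToLim Xs c x xs hxs RX) := by
  haveI : HenselianLocalRing RX := Hensel.IsStrictHenselization.henselian (R := c.pt.presheaf.stalk x)
  haveI := (Hensel.IsStrictHenselization.isSepClosure (R := c.pt.presheaf.stalk x) (S := RX)).separable
  haveI : ∀ i, HenselianLocalRing (Ring' Xs xs i) := fun i => (strictHenz_data _).1
  haveI : ∀ i, IsSepClosed (ResidueField (Ring' Xs xs i)) := fun i => (strictHenz_data _).2
  obtain ⟨hL, hsep⟩ := Hensel.strictlyHenselian_directLimit (G := Ring' Xs xs)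
    (f := fun i j h => trans Xs c x xs hxs RX h) fun i j h => isLocalHom_trans Xs c x xs hxs RX h
  haveI : HenselianLocalRing (Colim Xs c x xs hxs RX) := hL
  haveI : IsSepClosed (ResidueField (Colim Xs c x xs hxs RX)) := hsep
  let α := colimToLim Xs c x xs hxs RX
  let o := ofStage Xs c x xs hxs RX
  haveI hα : IsLocalHom α := ⟨fun a ha => by
    obtain ⟨i, b, rfl⟩ := Ring.DirectLimit.exists_of a
    have e : α (o i b) = toLim Xs c x xs hxs RX i b := RingHom.congr_fun (colimToLim_ofStage Xs c x xs hxs RX i) b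
    exact (IsUnit.of_map (toLim Xs c x xs hxs RX i) b (e ▸ ha)).map (o i)⟩
  haveI ho : ∀ i, IsLocalHom (o i) := fun i => ⟨fun b hb => IsUnit.of_map (toLim Xs c x xs hxs RX i) b
    (RingHom.congr_fun (colimToLim_ofStage Xs c x xs hxs RX i) b ▸ hb.map α)⟩
  -- the point of the limit
  let s : Cone Xs :=
    { pt := Spec (CommRingCat.of (Colim Xs c x xs hxs RX))
      π :=
        { app := fun a => Spec.map (CommRingCat.ofHom (o a.unop)) ≫ Hens2.specOf (Xs.obj a) (xs a.unop) (Ring' Xs xs a.unop)
          naturality := fun a b m => by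
            refine (Category.id_comp _).trans (Eq.symm ((Category.assoc _ _ _).trans
              ((whisker_eq _ (trans_spec Xs c x xs hxs RX (leOfHom m.unop)).symm).trans
                ((Category.assoc _ _ _).symm.trans (eq_whisker ?_ _)))))
            rw [← Spec.map_comp, ← CommRingCat.ofHom_comp]
            exact congrArg (fun r => Spec.map (CommRingCat.ofHom r))
              (ofStage_trans Xs c x xs hxs RX (leOfHom m.unop)) } }
  let u : Spec (CommRingCat.of (Colim Xs c x xs hxs RX)) ⟶ c.pt := hc.lift s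
  have hu : ∀ i, u ≫ c.π.app (op i) = Spec.map (CommRingCat.ofHom (o i)) ≫ Hens2.specOf (Xs.obj (op i)) (xs i) (Ring' Xs xs i) :=
    fun i => hc.fac s (op i)
  have hαu : Spec.map (CommRingCat.ofHom α) ≫ u = Hens2.specOf c.pt x RX := by
    refine hc.hom_ext fun a => ?_
    obtain ⟨i, rfl⟩ : ∃ i, op i = a := ⟨a.unop, rfl⟩
    rw [Category.assoc, hu, ← Category.assoc, ← Spec.map_comp, ← CommRingCat.ofHom_comp,
      colimToLim_ofStage Xs c x xs hxs RX i]
    exact toLim_spec Xs c x xs hxs RX i
  have hx : u.base (closedPoint (Colim Xs c x xs hxs RX)) = x := by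
    have h1 := congrArg (fun p : Spec (CommRingCat.of RX) ⟶ c.pt => p.base (closedPoint RX)) hαu
    have h2 : (Hens2.specOf c.pt x RX).base (closedPoint RX) = x :=
      (Scheme.Hom.comp_apply _ _ _).trans ((congrArg _ (closedPoint_spec _)).trans Scheme.fromSpecStalk_closedPoint)
    exact ((congrArg u.base (closedPoint_spec α)).symm.trans ((Scheme.Hom.comp_apply _ _ _).symm.trans h1)).trans h2
  have gen : ∀ y : c.pt, u.base (closedPoint (Colim Xs c x xs hxs RX)) = y →
      ∃ f₀ : c.pt.presheaf.stalk y →+* Colim Xs c x xs hxs RX,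
        u = Spec.map (CommRingCat.ofHom f₀) ≫ c.pt.fromSpecStalk y ∧ IsLocalHom f₀ := by
    rintro y rfl
    exact ⟨(Scheme.stalkClosedPointTo u).hom, (Scheme.Spec_stalkClosedPointTo_fromSpecStalk u).symm, inferInstance⟩
  obtain ⟨f₀, hf₀, hloc⟩ := gen x hx
  haveI := hloc
  have hαf : α.comp f₀ = algebraMap (c.pt.presheaf.stalk x) RX := by
    rw [hf₀, ← Category.assoc, ← Spec.map_comp, ← CommRingCat.ofHom_comp, Hens2.specOf, cancel_mono, Spec.map_inj] at hαu
    exact congrArg CommRingCat.Hom.hom hαu
  -- residue fields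
  have hres : (ResidueField.map α).comp (ResidueField.map f₀) =
      (RingHom.id (ResidueField RX)).comp (algebraMap (ResidueField (c.pt.presheaf.stalk x)) (ResidueField RX)) :=
    (residueMap_comp f₀ α _ hαf).trans (RingHom.id_comp _).symm
  obtain ⟨τ, hτ⟩ := exists_factor_field (ResidueField.map α) (RingHom.id _)
    (mem_range_of_sepClosed (ResidueField.map f₀) (ResidueField.map α) (RingHom.id _) hres)
  have hτ' : ∀ a, ResidueField.map α (τ a) = a := RingHom.congr_fun hτ
  have hτf : τ.comp (ResidueField.map (algebraMap (c.pt.presheaf.stalk x) RX)) = ResidueField.map f₀ :=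
    RingHom.ext fun a => (ResidueField.map α).injective ((hτ' _).trans (RingHom.congr_fun hres a).symm)
  obtain ⟨g, ⟨hg₁, hg₂⟩, -⟩ := Hensel.IsStrictHenselization.universal (R := c.pt.presheaf.stalk x) (S := RX)
    (Colim Xs c x xs hxs RX) f₀ τ hτf
  haveI := isLocalHom_of_residue g τ hg₂
  have hαg : α.comp g = RingHom.id RX := by
    obtain ⟨r, -, hr⟩ := Hensel.IsStrictHenselization.universal (R := c.pt.presheaf.stalk x) (S := RX) RX
      (algebraMap _ RX) (RingHom.id _) (RingHom.id_comp _)
    refine (hr (α.comp g) ⟨?_, fun a => ?_⟩).trans (hr (RingHom.id RX) ⟨RingHom.id_comp _, fun a => rfl⟩).symm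
    · rw [RingHom.comp_assoc, hg₁, hαf]
    · rw [RingHom.comp_apply, ← ResidueField.map_residue α, hg₂ a]
      exact hτ' _
  have hgα : ∀ i, (g.comp α).comp (o i) = o i := fun i => by
    let A := (Xs.obj (op i)).presheaf.stalk (xs i)
    haveI : IsLocalHom ((o i).comp (algebraMap A (Ring' Xs xs i))) := RingHom.isLocalHom_comp _ _
    obtain ⟨r, -, hr⟩ := Hensel.IsStrictHenselization.universal (R := A) (S := Ring' Xs xs i)
      (Colim Xs c x xs hxs RX) ((o i).comp (algebraMap A (Ring' Xs xs i))) (ResidueField.map (o i))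
      (residueMap_comp _ (o i) _ rfl)
    refine (hr _ ⟨?_, fun a => (ResidueField.map α).injective ?_⟩).trans
      (hr (o i) ⟨rfl, fun a => (ResidueField.map_residue (o i) a).symm⟩).symm
    · refine congrArg CommRingCat.Hom.hom (Spec.map_inj.1 ?_ :
        CommRingCat.ofHom (((g.comp α).comp (o i)).comp (algebraMap A (Ring' Xs xs i))) =
          CommRingCat.ofHom ((o i).comp (algebraMap A (Ring' Xs xs i))))
      rw [← cancel_mono ((Xs.obj (op i)).fromSpecStalk (xs i))]
      have e : Spec.map (CommRingCat.ofHom (((g.comp α).comp (o i)).comp (algebraMap A (Ring' Xs xs i)))) ≫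
          (Xs.obj (op i)).fromSpecStalk (xs i) = Spec.map (CommRingCat.ofHom g) ≫
            (Spec.map (CommRingCat.ofHom (toLim Xs c x xs hxs RX i)) ≫ Hens2.specOf (Xs.obj (op i)) (xs i) (Ring' Xs xs i)) := by
        rw [show (g.comp α).comp (o i) = g.comp (toLim Xs c x xs hxs RX i) from
          (RingHom.comp_assoc _ _ _).trans (congrArg g.comp (colimToLim_ofStage Xs c x xs hxs RX i))]
        simp only [Hens2.specOf, CommRingCat.ofHom_comp, Spec.map_comp, Category.assoc]
      have e' : Spec.map (CommRingCat.ofHom ((o i).comp (algebraMap A (Ring' Xs xs i)))) ≫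
          (Xs.obj (op i)).fromSpecStalk (xs i) = u ≫ c.π.app (op i) := by
        rw [hu, CommRingCat.ofHom_comp, Spec.map_comp, Category.assoc]
      refine e.trans (Eq.trans ?_ e'.symm)
      rw [toLim_spec, hf₀, ← hg₁, CommRingCat.ofHom_comp, Spec.map_comp, Hens2.specOf]
      simp only [Category.assoc]
    · refine ((ResidueField.map_residue α _).trans ?_)
      have h1 : residue (Colim Xs c x xs hxs RX) ((g.comp α) (o i a)) = τ (residue RX (α (o i a))) := hg₂ _
      refine Eq.trans ?_ (congrArg (ResidueField.map α) (ResidueField.map_residue (o i) a).symm)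
      refine Eq.trans ?_ (ResidueField.map_residue α (o i a)).symm
      exact ((ResidueField.map_residue α _).symm.trans (congrArg _ h1)).trans (hτ' _)
  refine ⟨fun a b hab => ?_, fun b => ⟨g b, RingHom.congr_fun hαg b⟩⟩
  have key : ∀ a, g (α a) = a := fun a => by
    obtain ⟨i, z, rfl⟩ := Ring.DirectLimit.exists_of a
    exact RingHom.congr_fun (hgα i) z
  rw [← key a, ← key b]
  exact congrArg g hab

/-- The strict localization of the limit is the limit. -/
noncomputable def isLimitSpecCone : IsLimit (specCone Xs c x xs hxs RX) := by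
  let α : Colim Xs c x xs hxs RX ≃+* RX := RingEquiv.ofBijective _ (bijective_colimToLim Xs x xs hxs RX hc)
  let K : ι ⥤ CommRingCat.{u} :=
    { obj := fun i => CommRingCat.of (Ring' Xs xs i)
      map := fun m => CommRingCat.ofHom (trans Xs c x xs hxs RX (leOfHom m))
      map_id := fun i => by rw [trans_self]; rfl
      map_comp := fun m n => by rw [← CommRingCat.ofHom_comp, trans_trans] }
  let cc : Cocone K :=
    { pt := CommRingCat.of RX
      ι :=
        { app := fun i => CommRingCat.ofHom (toLim Xs c x xs hxs RX i)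
          naturality := fun i j m => by
            refine Eq.trans ?_ (Category.comp_id _).symm
            show CommRingCat.ofHom (trans Xs c x xs hxs RX (leOfHom m)) ≫ _ = _
            rw [← CommRingCat.ofHom_comp, toLim_trans] } }
  have hcc : IsColimit cc := by
    refine isColimitOfElems cc (fun b => ?_) fun i a b e => ?_
    · obtain ⟨z, hz⟩ := α.surjective b
      obtain ⟨i, a, rfl⟩ := Ring.DirectLimit.exists_of z
      exact ⟨i, a, (RingHom.congr_fun (colimToLim_ofStage Xs c x xs hxs RX i) a).symm.trans hz⟩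
    · have h0 : ofStage Xs c x xs hxs RX i (a - b) = 0 := α.injective (by
        refine (RingHom.congr_fun (colimToLim_ofStage Xs c x xs hxs RX i) _).trans ?_
        exact ((map_sub _ a b).trans (sub_eq_zero.2 e)).trans (map_zero α).symm)
      obtain ⟨j, h, hj⟩ := Ring.DirectLimit.of.zero_exact (f' := fun i j h => trans Xs c x xs hxs RX h) h0
      exact ⟨j, h, sub_eq_zero.1 ((map_sub _ a b).symm.trans hj)⟩
  exact isLimitOfPreserves Scheme.Spec (IsColimit.op hcc)

end Groth.Agent.EtSqLim
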