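import Groth.Agent.EtContLib.PullSys

/-!
# Systems of sheaves pulled back along a morphism of systems of schemes
-/

set_option autoImplicit false
set_option linter.style.haveILetI false

universe u

open CategoryTheory CategoryTheory.Limits AlgebraicGeometry Opposite

namespace Groth.Agent.EtSqLim

open EtContLib

set_option backward.isDefEq.respectTransparency.types false

section Two

variable {P' P T' T : Scheme.{u}} (r : P' ⟶ P) (a : P ⟶ T) (t : T' ⟶ T) (a' : P' ⟶ T') (h : P' ⟶ T)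
  (w₁ : r ≫ a = h) (w₂ : a' ≫ t = h) {F : EtCoh.Ab T} {F' : EtCoh.Ab T'}

/-- a map of sheaves carried along a commutative square -/
noncomputable def sqLift (α : (EtCoh.pull t).obj F ⟶ F') :
    (EtCoh.pull r).obj ((EtCoh.pull a).obj F) ⟶ (EtCoh.pull a').obj F' :=
  (pullVia r a h w₁ F).hom ≫ comp2 a' t h w₂ α (𝟙 _)

theorem comp2_sqLift (α : (EtCoh.pull t).obj F ⟶ F') :
    comp2 r a h w₁ (𝟙 _) (sqLift r a t a' h w₁ w₂ α) = comp2 a' t h w₂ α (𝟙 _) := by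
  rw [sqLift, comp2_comp_right, comp2_id_pullVia, Category.id_comp]

theorem comp2_id_natural (a : P ⟶ T) (r : P' ⟶ P) (h : P' ⟶ T) (w₁ : r ≫ a = h) {G : EtCoh.Ab T} (φ : F ⟶ G)
    {M : EtCoh.Ab P'} (β : (EtCoh.pull r).obj ((EtCoh.pull a).obj G) ⟶ M) :
    comp2 r a h w₁ ((EtCoh.pull a).map φ) β = (EtCoh.pull h).map φ ≫ comp2 r a h w₁ (𝟙 _) β := by
  rw [← comp2_comp_left, Category.comp_id]

theorem sqLift_eq (α : (EtCoh.pull t).obj F ⟶ F') :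
    sqLift r a t a' h w₁ w₂ α = (pullVia r a h w₁ F).hom ≫ (pullVia a' t h w₂ F).inv ≫ (EtCoh.pull a').map α := by
  refine whisker_eq _ ((Iso.eq_inv_comp _).2 (comp2_id_injective a' t h w₂ ?_))
  rw [comp2_comp_right, comp2_id_pullVia, Category.id_comp]
  calc comp2 a' t h w₂ α (𝟙 _) = comp2 a' t h w₂ (𝟙 _ ≫ α) (𝟙 _) := by rw [Category.id_comp]
    _ = comp2 a' t h w₂ (𝟙 _) ((EtCoh.pull a').map α ≫ 𝟙 _) := comp2_comp_mid a' t h w₂ _ _ _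
    _ = _ := by rw [Category.comp_id]

end Two

theorem comp2_map_id {X Y : Scheme.{u}} (f : X ⟶ Y) {Z : Scheme.{u}} (g : Y ⟶ Z) (h : X ⟶ Z) (w : f ≫ g = h)
    {F : EtCoh.Ab Z} {G : EtCoh.Ab Y} {M : EtCoh.Ab X} (α : (EtCoh.pull g).obj F ⟶ G) (β : (EtCoh.pull f).obj G ⟶ M) :
    comp2 f g h w α β = comp2 f g h w α (𝟙 _) ≫ β := by
  rw [← comp2_comp_right, Category.id_comp]

section Compose

variable {P'' P' P T'' T' T : Scheme.{u}} (r : P' ⟶ P) (r' : P'' ⟶ P') (a : P ⟶ T) (a' : P' ⟶ T') (a'' : P'' ⟶ T'')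
  (t : T' ⟶ T) (t' : T'' ⟶ T') (h₁ : P' ⟶ T) (h₂ : P'' ⟶ T') (h : P'' ⟶ T)
  (rr : P'' ⟶ P) (tt : T'' ⟶ T)
  (w₁ : r ≫ a = h₁) (w₁' : a' ≫ t = h₁) (w₂ : r' ≫ a' = h₂) (w₂' : a'' ≫ t' = h₂)
  (wr : r' ≫ r = rr) (wt : t' ≫ t = tt) (w : rr ≫ a = h) (w' : a'' ≫ tt = h)

/-- squares compose -/
theorem comp2_sqLift_sqLift {F : EtCoh.Ab T} {F' : EtCoh.Ab T'} {F'' : EtCoh.Ab T''}
    (α : (EtCoh.pull t).obj F ⟶ F') (α' : (EtCoh.pull t').obj F' ⟶ F'') :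
    comp2 r' r rr wr (sqLift r a t a' h₁ w₁ w₁' α) (sqLift r' a' t' a'' h₂ w₂ w₂' α') =
      sqLift rr a tt a'' h w w' (comp2 t' t tt wt α α') := by
  refine comp2_id_injective rr a h w ?_
  rw [comp2_sqLift]
  have e₁ : r' ≫ h₁ = h := by rw [← w₁, ← Category.assoc, wr, w]
  have e₂ : h₂ ≫ t = h := by rw [← w₂', Category.assoc, wt, w']
  rw [← comp2_assoc r' r a rr h₁ h wr w₁ e₁ w, comp2_sqLift, comp2_assoc r' a' t h₂ h₁ h w₂ w₁' e₁ e₂,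
    comp2_sqLift]
  exact (comp2_assoc a'' t' t h₂ tt h w₂' wt w' e₂ _ _ _).symm

end Compose

section Cart

variable {X Y T : Scheme.{u}} (m : X ⟶ Y) (a : Y ⟶ T) (b : X ⟶ T) (w : m ≫ a = b)

theorem sqLift_id (F : EtCoh.Ab T) (wb : b ≫ 𝟙 T = b) (α : (EtCoh.pull (𝟙 T)).obj F ⟶ F)
    (hα : comp2 b (𝟙 T) b wb α (𝟙 _) = 𝟙 _) :
    sqLift m a (𝟙 T) b b w wb α = (pullVia m a b w F).hom := by
  rw [sqLift, hα, Category.comp_id]

end Cart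

section Compare

variable {PX' PX PS' PS T' T : Scheme.{u}} (rS : PS' ⟶ PS) (rX : PX' ⟶ PX) (m : PX ⟶ PS) (m' : PX' ⟶ PS')
  (aS : PS ⟶ T) (aS' : PS' ⟶ T') (aX : PX ⟶ T) (aX' : PX' ⟶ T') (t : T' ⟶ T) (hS : PS' ⟶ T) (hX : PX' ⟶ T)
  (mr : PX' ⟶ PS)
  (wm : m ≫ aS = aX) (wm' : m' ≫ aS' = aX') (wr : m' ≫ rS = mr) (wr' : rX ≫ m = mr)
  (wS : rS ≫ aS = hS) (wS' : aS' ≫ t = hS) (wX : rX ≫ aX = hX) (wX' : aX' ≫ t = hX)

/-- cartesian maps commute with the squares -/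
theorem comp2_cart_sqLift {F : EtCoh.Ab T} {F' : EtCoh.Ab T'} (α : (EtCoh.pull t).obj F ⟶ F') :
    comp2 m' rS mr wr (sqLift rS aS t aS' hS wS wS' α) (pullVia m' aS' aX' wm' F').hom =
      comp2 rX m mr wr' (pullVia m aS aX wm F).hom (sqLift rX aX t aX' hX wX wX' α) := by
  have e₀ : mr ≫ aS = hX := by rw [← wr', Category.assoc, wm, wX]
  refine comp2_id_injective mr aS hX e₀ ?_
  have e₁ : m' ≫ hS = hX := by rw [← wS, ← Category.assoc, wr, e₀]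
  rw [← comp2_assoc m' rS aS mr hS hX wr wS e₁ e₀, comp2_sqLift,
    comp2_assoc m' aS' t aX' hS hX wm' wS' e₁ wX', comp2_id_pullVia,
    ← comp2_assoc rX m aS mr aX hX wr' wm wX e₀, comp2_id_pullVia, comp2_sqLift]

end Compare

section Iso

variable {P' P T' T : Scheme.{u}} (r : P' ⟶ P) (a : P ⟶ T) (t : T' ⟶ T) (a' : P' ⟶ T') (h : P' ⟶ T)
  (w₁ : r ≫ a = h) (w₂ : a' ≫ t = h) {F : EtCoh.Ab T} {F' : EtCoh.Ab T'}

/-- an isomorphism carried along a commutative square -/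
noncomputable def sqIso (e : (EtCoh.pull t).obj F ≅ F') :
    (EtCoh.pull r).obj ((EtCoh.pull a).obj F) ≅ (EtCoh.pull a').obj F' :=
  pullVia r a h w₁ F ≪≫ (pullVia a' t h w₂ F).symm ≪≫ (EtCoh.pull a').mapIso e

theorem sqIso_hom (e : (EtCoh.pull t).obj F ≅ F') :
    (sqIso r a t a' h w₁ w₂ e).hom = sqLift r a t a' h w₁ w₂ e.hom := by
  rw [sqLift_eq, sqIso, Iso.trans_hom, Iso.trans_hom, Iso.symm_hom, Functor.mapIso_hom]

theorem sqLift_comp {F'' : EtCoh.Ab T'} (α : (EtCoh.pull t).obj F ⟶ F') (β : F' ⟶ F'') :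
    sqLift r a t a' h w₁ w₂ (α ≫ β) = sqLift r a t a' h w₁ w₂ α ≫ (EtCoh.pull a').map β := by
  rw [sqLift_eq, sqLift_eq, Functor.map_comp, Category.assoc, Category.assoc]

end Iso

section IsoCompose

variable {P'' P' P T'' T' T : Scheme.{u}} (r : P' ⟶ P) (r' : P'' ⟶ P') (rr : P'' ⟶ P) (a : P ⟶ T) (a' : P' ⟶ T')
  (a'' : P'' ⟶ T'') (t : T' ⟶ T) (t' : T'' ⟶ T') (tt : T'' ⟶ T) (h₁ : P' ⟶ T) (h₂ : P'' ⟶ T') (h : P'' ⟶ T)
  (w₁ : r ≫ a = h₁) (w₁' : a' ≫ t = h₁) (w₂ : r' ≫ a' = h₂) (w₂' : a'' ≫ t' = h₂)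
  (wr : r' ≫ r = rr) (wt : t' ≫ t = tt) (w : rr ≫ a = h) (w' : a'' ≫ tt = h)

theorem sqIso_map_eq {F : EtCoh.Ab T} {F' : EtCoh.Ab T'} {M M' : EtCoh.Ab T''} (α : (EtCoh.pull t).obj F ⟶ F')
    (ei : (EtCoh.pull tt).obj F ≅ M) (ej : (EtCoh.pull t').obj F' ≅ M') (g : M ⟶ M')
    (hg : ei.hom ≫ g = comp2 t' t tt wt α ej.hom) :
    (sqIso rr a tt a'' h w w' ei).hom ≫ (EtCoh.pull a'').map g =
      comp2 r' r rr wr (sqLift r a t a' h₁ w₁ w₁' α) (sqIso r' a' t' a'' h₂ w₂ w₂' ej).hom := by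
  rw [sqIso_hom, sqIso_hom, ← sqLift_comp, hg,
    comp2_sqLift_sqLift r r' a a' a'' t t' h₁ h₂ h rr tt w₁ w₁' w₂ w₂' wr wt w w']

end IsoCompose

section Sys

variable {ι : Type u} [Preorder ι] {Xs : ιᵒᵖ ⥤ Scheme.{u}} {c : Cone Xs} (A : Sys Xs c)
  {Ps : ιᵒᵖ ⥤ Scheme.{u}} (cP : Cone Ps) (a : Ps ⟶ Xs) (aI : cP.pt ⟶ c.pt)
  (ha : ∀ j, cP.π.app j ≫ a.app j = aI ≫ c.π.app j)

theorem tr_sq {i j : ι} (h : i ≤ j) : a.app (op j) ≫ tr Xs h = tr Ps h ≫ a.app (op i) :=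
  (a.naturality _).symm

/-- the pulled back system -/
noncomputable def sysPull : Sys Ps cP where
  F i := (EtCoh.pull (a.app (op i))).obj (A.F i)
  φ i j h := sqLift (tr Ps h) (a.app (op i)) (tr Xs h) (a.app (op j)) _ rfl (tr_sq a h) (A.φ h)
  cocycle i j k hij hjk := by
    rw [A.cocycle hij hjk]
    exact (comp2_sqLift_sqLift (tr Ps hij) (tr Ps hjk) (a.app (op i)) (a.app (op j)) (a.app (op k)) (tr Xs hij)
      (tr Xs hjk) _ _ _ _ _ rfl (tr_sq a hij) rfl (tr_sq a hjk) (tr_tr Ps hij hjk) (tr_tr Xs hij hjk) rfl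
      (tr_sq a (hij.trans hjk)) (A.φ hij) (A.φ hjk)).symm
  Finf := (EtCoh.pull aI).obj A.Finf
  ψ i := sqLift (pr Ps cP i) (a.app (op i)) (pr Xs c i) aI _ rfl (ha (op i)).symm (A.ψ i)
  compat i j h := by
    rw [A.compat h]
    exact (comp2_sqLift_sqLift (tr Ps h) (pr Ps cP j) (a.app (op i)) (a.app (op j)) aI (tr Xs h)
      (pr Xs c j) _ _ _ _ _ rfl (tr_sq a h) rfl (ha (op j)).symm (pr_tr Ps cP h) (pr_tr Xs c h) rfl
      (ha (op i)).symm (A.φ h) (A.ψ j)).symm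

variable {A}

/-- it presents the pullback as a colimit -/
noncomputable def sysPullData (D : A.ColimData) : (sysPull A cP a aI ha).ColimData where
  G := D.G ⋙ EtCoh.pull aI
  κ i := (EtCoh.pull aI).map (D.κ i)
  natκ i j h := by rw [← D.natκ h, Functor.map_comp]; rfl
  isColimit :=
    haveI := (EtCoh.pullPushAdj aI).leftAdjoint_preservesColimits
    IsColimit.ofIsoColimit (isColimitOfPreserves (EtCoh.pull aI) D.isColimit) (Cocone.ext (Iso.refl _) fun i => by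
      rw [Iso.refl_hom]; exact Category.comp_id _)
  e i := sqIso (pr Ps cP i) (a.app (op i)) (pr Xs c i) aI _ rfl (ha (op i)).symm (D.e i)
  hψ i := by
    show sqLift _ _ _ _ _ _ _ (A.ψ i) = _
    rw [D.hψ i, sqLift_comp, sqIso_hom]
    exact rfl
  hG i j h := sqIso_map_eq (tr Ps h) (pr Ps cP j) (pr Ps cP i) (a.app (op i)) (a.app (op j)) aI (tr Xs h) (pr Xs c j)
    (pr Xs c i) _ _ _ rfl (tr_sq a h) rfl (ha (op j)).symm (pr_tr Ps cP h) (pr_tr Xs c h) rfl (ha (op i)).symm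
    (A.φ h) (D.e i) (D.e j) (D.G.map (homOfLE h)) (D.hG h)

end Sys

end Groth.Agent.EtSqLim
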