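import Groth.Agent.EtSqLim.HenzLimit
import Groth.Agent.EtSqLim.Cones
import Groth.Agent.EtSqLim.SysPull
import Groth.Agent.EtStrictBC.Main
import Groth.Agent.EtContLib.Main

/-!
# Base change on a limit of cartesian squares
-/

set_option autoImplicit false
set_option linter.style.haveILetI false
set_option maxHeartbeats 1000000

universe u

open CategoryTheory CategoryTheory.Limits AlgebraicGeometry Opposite

namespace Groth.Agent.EtSqLim

open EtContLib

set_option backward.isDefEq.respectTransparency.types false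

theorem bijective_finf {ι : Type u} [Preorder ι] {A B : DSys.{u + 1} ι} (m : DSys.Hom A B) (hA : A.IsColim)
    (hB : B.IsColim) (hbij : ∀ i, Function.Bijective (m.f i)) : Function.Bijective m.finf := by
  refine ⟨(injective_iff_map_eq_zero m.finf).2 fun ξ hξ => ?_, fun η => ?_⟩
  · obtain ⟨i, x, rfl⟩ := hA.1 ξ
    obtain ⟨k, hk, hk0⟩ := hB.2 i (m.f i x) (by rw [m.comm_inf, hξ])
    rw [m.comm] at hk0
    rw [← A.π_T hk, (hbij k).1 (hk0.trans (map_zero _).symm), map_zero]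
  · obtain ⟨i, y, rfl⟩ := hB.1 η
    obtain ⟨x, rfl⟩ := (hbij i).2 y
    exact ⟨_, (m.comm_inf i x).symm⟩

section CartHom

variable {ι : Type u} [Preorder ι] {Ts Ps Qs : ιᵒᵖ ⥤ Scheme.{u}} {cT : Cone Ts} {cP : Cone Ps} {cQ : Cone Qs}
  (A : Sys Ts cT) (a : Ps ⟶ Ts) (aI : cP.pt ⟶ cT.pt) (ha : ∀ j, cP.π.app j ≫ a.app j = aI ≫ cT.π.app j)
  (b : Qs ⟶ Ts) (bI : cQ.pt ⟶ cT.pt) (hb : ∀ j, cQ.π.app j ≫ b.app j = bI ≫ cT.π.app j)
  (m : Qs ⟶ Ps) (mI : cQ.pt ⟶ cP.pt) (hm : ∀ j, cQ.π.app j ≫ m.app j = mI ≫ cP.π.app j)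
  (wm : ∀ j, m.app j ≫ a.app j = b.app j) (wI : mI ≫ aI = bI)

/-- restriction along a morphism of systems over the base -/
noncomputable def cartHom (n : ℕ) : DSys.Hom ((sysPull A cP a aI ha).H n) ((sysPull A cQ b bI hb).H n) where
  f i := EtLim.HpullThen (m.app (op i)) _ (pullVia (m.app (op i)) (a.app (op i)) (b.app (op i)) (wm (op i)) (A.F i)).hom n
  finf := EtLim.HpullThen mI _ (pullVia mI aI bI wI A.Finf).hom n
  comm i j h x := by
    have e : tr Qs h ≫ m.app (op i) = m.app (op j) ≫ tr Ps h := m.naturality _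
    refine (HpullThen_comp (tr Qs h) (m.app (op i)) (m.app (op j) ≫ tr Ps h) e _ _ n x).trans
      (Eq.trans ?_ (HpullThen_comp (m.app (op j)) (tr Ps h) (m.app (op j) ≫ tr Ps h) rfl _ _ n x).symm)
    exact congrArg (fun z => EtLim.HpullThen _ _ z n x) (comp2_cart_sqLift (tr Ps h) (tr Qs h) (m.app (op i))
      (m.app (op j)) (a.app (op i)) (a.app (op j)) (b.app (op i)) (b.app (op j)) (tr Ts h) _ _ _
      (wm (op i)) (wm (op j)) rfl e rfl (tr_sq a h) rfl (tr_sq b h) (A.φ h)).symm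
  comm_inf i x := by
    have e : pr Qs cQ i ≫ m.app (op i) = mI ≫ pr Ps cP i := hm (op i)
    refine (HpullThen_comp (pr Qs cQ i) (m.app (op i)) (mI ≫ pr Ps cP i) e _ _ n x).trans
      (Eq.trans ?_ (HpullThen_comp mI (pr Ps cP i) (mI ≫ pr Ps cP i) rfl _ _ n x).symm)
    exact congrArg (fun z => EtLim.HpullThen _ _ z n x) (comp2_cart_sqLift (pr Ps cP i) (pr Qs cQ i) (m.app (op i))
      mI (a.app (op i)) aI (b.app (op i)) bI (pr Ts cT i) _ _ _
      (wm (op i)) wI rfl e rfl (ha (op i)).symm rfl (hb (op i)).symm (A.ψ i)).symm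

include hm in
theorem bijective_HpullVia_limit [∀ j, PreservesFiniteLimits (EtCoh.pull (m.app j))]
    [PreservesFiniteLimits (EtCoh.pull mI)] (n : ℕ) (hA : ((sysPull A cP a aI ha).H n).IsColim)
    (hB : ((sysPull A cQ b bI hb).H n).IsColim)
    (hs : ∀ i, Function.Bijective (EtCore.HpullVia (m.app (op i)) (a.app (op i)) (b.app (op i)) (wm (op i)) (A.F i) n)) :
    Function.Bijective (EtCore.HpullVia mI aI bI wI A.Finf n) :=
  bijective_finf (cartHom A a aI ha b bI hb m mI hm wm wI n) hA hB hs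

end CartHom

theorem qcqs_of_over_affine {X S T : Scheme.{u}} [IsAffine X] (u : X ⟶ S) (g : T ⟶ S) [QuasiCompact g]
    [QuasiSeparated g] : CompactSpace ↥(pullback g u) ∧ QuasiSeparatedSpace ↥(pullback g u) :=
  ⟨QuasiCompact.compactSpace_of_compactSpace (pullback.snd g u),
    quasiSeparatedSpace_of_quasiSeparated (pullback.snd g u)⟩

section Theta

variable {ι : Type u} [Preorder ι]

/-- the strict localizations map to the stages -/
noncomputable def specNat (Xs : ιᵒᵖ ⥤ Scheme.{u}) (c : Cone Xs) (x : c.pt)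
    (xs : ∀ i : ι, Xs.obj (op i)) (hxs : ∀ i, (c.π.app (op i)).base x = xs i)
    (RX : Type u) [CommRing RX] [IsLocalRing RX] [Algebra (c.pt.presheaf.stalk x) RX]
    [IsLocalHom (algebraMap (c.pt.presheaf.stalk x) RX)] [Hensel.IsStrictHenselization (c.pt.presheaf.stalk x) RX] :
    specSys Xs c x xs hxs RX ⟶ Xs where
  app a := Hens2.specOf (Xs.obj a) (xs a.unop) (Ring' Xs xs a.unop)
  naturality _ _ k := trans_spec Xs c x xs hxs RX (leOfHom k.unop)

theorem specNat_fac (Xs : ιᵒᵖ ⥤ Scheme.{u}) (c : Cone Xs) (x : c.pt)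
    (xs : ∀ i : ι, Xs.obj (op i)) (hxs : ∀ i, (c.π.app (op i)).base x = xs i)
    (RX : Type u) [CommRing RX] [IsLocalRing RX] [Algebra (c.pt.presheaf.stalk x) RX]
    [IsLocalHom (algebraMap (c.pt.presheaf.stalk x) RX)] [Hensel.IsStrictHenselization (c.pt.presheaf.stalk x) RX]
    (a : ιᵒᵖ) : Hens2.specOf c.pt x RX ≫ c.π.app a =
      (specCone Xs c x xs hxs RX).π.app a ≫ (specNat Xs c x xs hxs RX).app a :=
  (toLim_spec Xs c x xs hxs RX a.unop).symm

/-- the image of a point at a stage -/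
abbrev ptX (Xs : ιᵒᵖ ⥤ Scheme.{u}) (cX : Cone Xs) (x : cX.pt) (i : ι) : Xs.obj (op i) := (cX.π.app (op i)).base x

/-- the image in the stages of the base -/
abbrev ptS {Xs Ss : ιᵒᵖ ⥤ Scheme.{u}} (fN : Xs ⟶ Ss) (cX : Cone Xs) (x : cX.pt) (i : ι) : Ss.obj (op i) :=
  (fN.app (op i)).base (ptX Xs cX x i)

theorem ptS_eq {Xs Ss : ιᵒᵖ ⥤ Scheme.{u}} (fN : Xs ⟶ Ss) (cX : Cone Xs) (cS : Cone Ss) (f : cX.pt ⟶ cS.pt)
    (hf : ∀ a, f ≫ cS.π.app a = cX.π.app a ≫ fN.app a) (x : cX.pt) (i : ι) :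
    (cS.π.app (op i)).base (f.base x) = ptS fN cX x i :=
  (Scheme.Hom.comp_apply _ _ _).symm.trans
    ((congrArg (fun p : cX.pt ⟶ Ss.obj (op i) => p.base x) (hf (op i))).trans (Scheme.Hom.comp_apply _ _ _))

theorem exists_thetaNat {Xs Ss : ιᵒᵖ ⥤ Scheme.{u}} (fN : Xs ⟶ Ss) (cX : Cone Xs) (cS : Cone Ss) (f : cX.pt ⟶ cS.pt)
    (hf : ∀ a, f ≫ cS.π.app a = cX.π.app a ≫ fN.app a) (x : cX.pt)
    (RS : Type u) [CommRing RS] [IsLocalRing RS] [Algebra (cS.pt.presheaf.stalk (f.base x)) RS]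
    [IsLocalHom (algebraMap (cS.pt.presheaf.stalk (f.base x)) RS)]
    [Hensel.IsStrictHenselization (cS.pt.presheaf.stalk (f.base x)) RS]
    (RX : Type u) [CommRing RX] [IsLocalRing RX] [Algebra (cX.pt.presheaf.stalk x) RX]
    [IsLocalHom (algebraMap (cX.pt.presheaf.stalk x) RX)] [Hensel.IsStrictHenselization (cX.pt.presheaf.stalk x) RX]
    (ψ : RS →+* RX) [IsLocalHom ψ]
    (hψ : ψ.comp (algebraMap (cS.pt.presheaf.stalk (f.base x)) RS) =
      (algebraMap (cX.pt.presheaf.stalk x) RX).comp (f.stalkMap x).hom) :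
    ∃ θN : specSys Xs cX x (ptX Xs cX x) (fun _ => rfl) RX ⟶
        specSys Ss cS (f.base x) (ptS fN cX x) (ptS_eq fN cX cS f hf x) RS,
      (∀ a, θN.app a ≫ (specNat Ss cS (f.base x) (ptS fN cX x) (ptS_eq fN cX cS f hf x) RS).app a =
        (specNat Xs cX x (ptX Xs cX x) (fun _ => rfl) RX).app a ≫ fN.app a) ∧
      (∀ a, (specCone Xs cX x (ptX Xs cX x) (fun _ => rfl) RX).π.app a ≫ θN.app a =
        Spec.map (CommRingCat.ofHom ψ) ≫
          (specCone Ss cS (f.base x) (ptS fN cX x) (ptS_eq fN cX cS f hf x) RS).π.app a) ∧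
      ∀ i, ∃ θ : Ring' Ss (ptS fN cX x) i →+* Ring' Xs (ptX Xs cX x) i,
        θN.app (op i) = Spec.map (CommRingCat.ofHom θ) ∧ IsLocalHom θ ∧
          θ.comp (algebraMap ((Ss.obj (op i)).presheaf.stalk (ptS fN cX x i)) (Ring' Ss (ptS fN cX x) i)) =
            (algebraMap ((Xs.obj (op i)).presheaf.stalk (ptX Xs cX x i)) (Ring' Xs (ptX Xs cX x) i)).comp
              ((fN.app (op i)).stalkMap (ptX Xs cX x i)).hom := by
  haveI : HenselianLocalRing RS := Hensel.IsStrictHenselization.henselian (R := cS.pt.presheaf.stalk (f.base x))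
  haveI : HenselianLocalRing RX := Hensel.IsStrictHenselization.henselian (R := cX.pt.presheaf.stalk x)
  let xs := ptX Xs cX x
  let hxs : ∀ i, (cX.π.app (op i)).base x = xs i := fun _ => rfl
  let ss := ptS fN cX x
  let hss := ptS_eq fN cX cS f hf x
  let κS := fun i => toLim Ss cS (f.base x) ss hss RS i
  let κX := fun i => toLim Xs cX x xs hxs RX i
  let sS := fun i => Hens2.specOf (Ss.obj (op i)) (ss i) (Ring' Ss ss i)
  let sX := fun i => Hens2.specOf (Xs.obj (op i)) (xs i) (Ring' Xs xs i)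
  have hsf : Spec.map (CommRingCat.ofHom ψ) ≫ Hens2.specOf cS.pt (f.base x) RS = Hens2.specOf cX.pt x RX ≫ f :=
    (EtPBC0.specOf_comp f x RS RX ψ hψ).symm
  haveI hκS : ∀ i, IsLocalHom (κS i) := fun i => isLocalHom_toLim ..
  haveI hκX : ∀ i, IsLocalHom (κX i) := fun i => isLocalHom_toLim ..
  haveI hγ : ∀ i, IsLocalHom (ψ.comp (κS i)) := fun i => RingHom.isLocalHom_comp _ _
  have hw : ∀ i, Spec.map (CommRingCat.ofHom (ψ.comp (κS i))) ≫ sS i =
      Spec.map (CommRingCat.ofHom (κX i)) ≫ sX i ≫ fN.app (op i) := fun i => by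
    have e1 : Spec.map (CommRingCat.ofHom (ψ.comp (κS i))) ≫ sS i =
        Spec.map (CommRingCat.ofHom ψ) ≫ (Spec.map (CommRingCat.ofHom (κS i)) ≫ sS i) := by
      rw [CommRingCat.ofHom_comp, Spec.map_comp, Category.assoc]
    refine e1.trans ((whisker_eq _ (toLim_spec Ss cS (f.base x) ss hss RS i)).trans ?_)
    refine (Category.assoc _ _ _).symm.trans ((eq_whisker hsf _).trans ((Category.assoc _ _ _).trans ?_))
    refine (whisker_eq _ (hf (op i))).trans ((Category.assoc _ _ _).symm.trans ?_)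
    exact (eq_whisker (toLim_spec Xs cX x xs hxs RX i).symm _).trans (Category.assoc _ _ _)
  have hex : ∀ i, ∃! θ : Ring' Ss ss i →+* Ring' Xs xs i,
      Spec.map (CommRingCat.ofHom θ) ≫ sS i = sX i ≫ fN.app (op i) ∧ (κX i).comp θ = ψ.comp (κS i) := fun i => by
    haveI := (strictHenz_data ((Xs.obj (op i)).presheaf.stalk (xs i))).1
    haveI := (strictHenz_data ((Xs.obj (op i)).presheaf.stalk (xs i))).2
    exact existsUnique_factor_spec (fN.app (op i)) (xs i) (ss i) rfl (κX i) (ψ.comp (κS i)) (hw i)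
  let θ := fun i => (hex i).exists.choose
  have hθ₁ : ∀ i, Spec.map (CommRingCat.ofHom (θ i)) ≫ sS i = sX i ≫ fN.app (op i) :=
    fun i => (hex i).exists.choose_spec.1
  have hθ₂ : ∀ i, (κX i).comp (θ i) = ψ.comp (κS i) := fun i => (hex i).exists.choose_spec.2
  have hθT : ∀ {i j : ι} (hij : i ≤ j), (θ j).comp (trans Ss cS (f.base x) ss hss RS hij) =
      (trans Xs cX x xs hxs RX hij).comp (θ i) := fun {i j} hij => by
    haveI := (strictHenz_data ((Xs.obj (op j)).presheaf.stalk (xs j))).1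
    haveI := (strictHenz_data ((Xs.obj (op j)).presheaf.stalk (xs j))).2
    let TS := trans Ss cS (f.base x) ss hss RS hij
    let TX := trans Xs cX x xs hxs RX hij
    have tS : Spec.map (CommRingCat.ofHom TS) ≫ sS i = sS j ≫ Ss.map (homOfLE hij).op :=
      trans_spec Ss cS (f.base x) ss hss RS hij
    have tX : Spec.map (CommRingCat.ofHom TX) ≫ sX i = sX j ≫ Xs.map (homOfLE hij).op :=
      trans_spec Xs cX x xs hxs RX hij
    let φ : Xs.obj (op j) ⟶ Ss.obj (op i) := fN.app (op j) ≫ Ss.map (homOfLE hij).op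
    have p1 : Spec.map (CommRingCat.ofHom ((θ j).comp TS)) ≫ sS i = sX j ≫ φ := by
      rw [CommRingCat.ofHom_comp, Spec.map_comp, Category.assoc, tS, ← Category.assoc, hθ₁, Category.assoc]
    have p2 : Spec.map (CommRingCat.ofHom (TX.comp (θ i))) ≫ sS i = sX j ≫ φ := by
      rw [CommRingCat.ofHom_comp, Spec.map_comp, Category.assoc, hθ₁, ← Category.assoc, tX, Category.assoc,
        fN.naturality]
    have q1 : (κX j).comp ((θ j).comp TS) = ψ.comp (κS i) := by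
      rw [← RingHom.comp_assoc, hθ₂ j, RingHom.comp_assoc]
      exact congrArg ψ.comp (toLim_trans Ss cS (f.base x) ss hss RS hij)
    have q2 : (κX j).comp (TX.comp (θ i)) = ψ.comp (κS i) := by
      rw [← RingHom.comp_assoc, show (κX j).comp TX = κX i from toLim_trans Xs cX x xs hxs RX hij, hθ₂ i]
    refine (existsUnique_factor_spec φ (xs j) (ss i)
      ((Scheme.Hom.comp_apply _ _ _).trans ?_) (κX j) (ψ.comp (κS i)) ?_).unique ⟨p1, q1⟩ ⟨p2, q2⟩
    · exact tr_point Ss cS (f.base x) ss hss hij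
    · exact (congrArg (fun z => Spec.map (CommRingCat.ofHom z) ≫ sS i) q1).symm.trans
        ((eq_whisker ((congrArg Spec.map (CommRingCat.ofHom_comp _ _)).trans (Spec.map_comp _ _)) _).trans
          ((Category.assoc _ _ _).trans (whisker_eq _ p1)))
  refine ⟨⟨fun a => Spec.map (CommRingCat.ofHom (θ a.unop)), fun a b k => ?_⟩, fun a => hθ₁ a.unop, fun a => ?_,
    fun i => ⟨θ i, rfl, ⟨fun z hz => IsUnit.of_map (ψ.comp (κS i)) z (hθ₂ i ▸ hz.map (κX i))⟩,
      (spec_eq_iff (fN.app (op i)) (xs i) (θ i) _).1 ((hθ₁ i).trans (Category.assoc _ _ _))⟩⟩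
  · show Spec.map (CommRingCat.ofHom (trans Xs cX x xs hxs RX (leOfHom k.unop))) ≫ _ =
      _ ≫ Spec.map (CommRingCat.ofHom (trans Ss cS (f.base x) ss hss RS (leOfHom k.unop)))
    rw [← Spec.map_comp, ← Spec.map_comp, ← CommRingCat.ofHom_comp, ← CommRingCat.ofHom_comp, hθT]
  · show Spec.map (CommRingCat.ofHom (κX a.unop)) ≫ Spec.map (CommRingCat.ofHom (θ a.unop)) =
      Spec.map (CommRingCat.ofHom ψ) ≫ Spec.map (CommRingCat.ofHom (κS a.unop))
    rw [← Spec.map_comp, ← Spec.map_comp, ← CommRingCat.ofHom_comp, ← CommRingCat.ofHom_comp, hθ₂]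

end Theta

section Final

variable {ι : Type u} [Preorder ι] [Nonempty ι] [IsDirected ι (· ≤ ·)]
    (Xs Ss Ts Ys : ιᵒᵖ ⥤ Scheme.{u}) (fN : Xs ⟶ Ss) (gN : Ts ⟶ Ss) (hN : Ys ⟶ Xs) (eN : Ys ⟶ Ts)
    (sq : ∀ a : ιᵒᵖ, IsPullback (eN.app a) (hN.app a) (gN.app a) (fN.app a))
    [∀ a : ιᵒᵖ, QuasiCompact (gN.app a)] [∀ a : ιᵒᵖ, QuasiSeparated (gN.app a)]
    (haT : ∀ ⦃a b : ιᵒᵖ⦄ (m : a ⟶ b), IsAffineHom (Ts.map m))
    (haS : ∀ ⦃a b : ιᵒᵖ⦄ (m : a ⟶ b), IsAffineHom (Ss.map m))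
    (cX : Cone Xs) (hcX : IsLimit cX) (cS : Cone Ss) (hcS : IsLimit cS) (cT : Cone Ts) (hcT : IsLimit cT)

include haT haS hcT hcS in
theorem qcqs_limit (g : cT.pt ⟶ cS.pt) (hg : ∀ a, g ≫ cS.π.app a = cT.π.app a ≫ gN.app a) :
    QuasiCompact g ∧ QuasiSeparated g := by
  haveI : IsCofiltered ιᵒᵖ := EtContLib.isCofiltered_op
  let a : ιᵒᵖ := op (Classical.arbitrary ι)
  haveI := haT; haveI := haS
  haveI : IsAffineHom (cT.π.app a) := isAffineHom_π_app Ts cT hcT a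
  haveI : IsAffineHom (cS.π.app a) := isAffineHom_π_app Ss cS hcS a
  haveI h1 : QuasiCompact (g ≫ cS.π.app a) := by rw [hg]; infer_instance
  haveI h2 : QuasiSeparated (g ≫ cS.π.app a) := by rw [hg]; infer_instance
  exact ⟨MorphismProperty.of_postcomp @QuasiCompact (W' := @QuasiSeparated) g (cS.π.app a) inferInstance h1,
    QuasiSeparated.of_comp g (cS.π.app a)⟩

include haT haS hcS hcT in
theorem bijective_limit_fibres (g : cT.pt ⟶ cS.pt) (hg : ∀ a, g ≫ cS.π.app a = cT.π.app a ≫ gN.app a)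
    {BS BX : ιᵒᵖ ⥤ Scheme.{u}} (hBS : ∀ a, IsAffine (BS.obj a)) (hBX : ∀ a, IsAffine (BX.obj a))
    (uS : BS ⟶ Ss) (uX : BX ⟶ Ss) (θN : BX ⟶ BS) (hθ : ∀ a, θN.app a ≫ uS.app a = uX.app a)
    {cBS : Cone BS} (hcBS : IsLimit cBS) {cBX : Cone BX} (hcBX : IsLimit cBX)
    (sS : cBS.pt ⟶ cS.pt) (hbS : ∀ a, sS ≫ cS.π.app a = cBS.π.app a ≫ uS.app a)
    (sX : cBX.pt ⟶ cS.pt) (hbX : ∀ a, sX ≫ cS.π.app a = cBX.π.app a ≫ uX.app a)
    (ν : cBX.pt ⟶ cBS.pt) (hν : ∀ a, cBX.π.app a ≫ θN.app a = ν ≫ cBS.π.app a)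
    {PS PX : Scheme.{u}} (aS : PS ⟶ cT.pt) (bS : PS ⟶ cBS.pt) (sqS : IsPullback aS bS g sS)
    (aX : PX ⟶ cT.pt) (bX : PX ⟶ cBX.pt) (sqX : IsPullback aX bX g sX)
    (m : PX ⟶ PS) (w : m ≫ aS = aX) (hm : m ≫ bS = bX ≫ ν) [PreservesFiniteLimits (EtCoh.pull m)]
    (A : Sys Ts cT) (D : A.ColimData) (q : ℕ)
    (hstage : ∀ i : ι, Function.Bijective (EtCore.HpullVia ((pbMap gN uS uX θN hθ).app (op i))
      ((pbFst gN uS).app (op i)) ((pbFst gN uX).app (op i)) (pbMap_fst gN uS uX θN hθ (op i)) (A.F i) q)) :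
    Function.Bijective (EtCore.HpullVia m aS aX w A.Finf q) := by
  let cPS : Cone (pb gN uS) := pbCone gN uS g sS hg hbS aS bS sqS
  let cPX : Cone (pb gN uX) := pbCone gN uX g sX hg hbX aX bX sqX
  have haS' : ∀ a, cPS.π.app a ≫ (pbFst gN uS).app a = aS ≫ cT.π.app a := pbCone_fst _ _ _ _ hg hbS _ _ sqS
  have haX' : ∀ a, cPX.π.app a ≫ (pbFst gN uX).app a = aX ≫ cT.π.app a := pbCone_fst _ _ _ _ hg hbX _ _ sqX
  have hmI : ∀ a, cPX.π.app a ≫ (pbMap gN uS uX θN hθ).app a = m ≫ cPS.π.app a :=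
    pbCone_pbMap gN uS g sS hg hbS aS bS sqS uX θN hθ sX hbX aX bX sqX ν hν m w hm
  have haff : ∀ {B : ιᵒᵖ ⥤ Scheme.{u}}, (∀ a, IsAffine (B.obj a)) → ∀ ⦃a b : ιᵒᵖ⦄ (k : a ⟶ b),
      IsAffineHom (B.map k) := fun hB a b k => haveI := hB a; haveI := hB b; isAffineHom_of_isAffine _
  have hcS' : ((sysPull A cPS (pbFst gN uS) aS haS').H q).IsColim :=
    Sys.cont_of_colimData (sysPullData cPS _ aS haS' D)
      (fun a b k => haveI := haT k; haveI := haS k; haveI := haff hBS k; isAffineHom_pb_map gN uS k)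
      (isLimitPbCone _ _ _ _ hg hbS _ _ sqS hcT hcBS hcS)
      (fun a => haveI := hBS a; (qcqs_of_over_affine (uS.app a) (gN.app a)).1)
      (fun a => haveI := hBS a; (qcqs_of_over_affine (uS.app a) (gN.app a)).2) q
  have hcX' : ((sysPull A cPX (pbFst gN uX) aX haX').H q).IsColim :=
    Sys.cont_of_colimData (sysPullData cPX _ aX haX' D)
      (fun a b k => haveI := haT k; haveI := haS k; haveI := haff hBX k; isAffineHom_pb_map gN uX k)
      (isLimitPbCone _ _ _ _ hg hbX _ _ sqX hcT hcBX hcS)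
      (fun a => haveI := hBX a; (qcqs_of_over_affine (uX.app a) (gN.app a)).1)
      (fun a => haveI := hBX a; (qcqs_of_over_affine (uX.app a) (gN.app a)).2) q
  haveI : ∀ j, PreservesFiniteLimits (EtCoh.pull ((pbMap gN uS uX θN hθ).app j)) := fun j =>
    EtFound.pull_preservesFiniteLimits _
  exact bijective_HpullVia_limit (cP := cPS) (cQ := cPX) A (pbFst gN uS) aS haS' (pbFst gN uX) aX haX' (pbMap gN uS uX θN hθ) m hmI
    (pbMap_fst gN uS uX θN hθ) w q hcS' hcX' hstage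

include sq haT haS hcX hcS hcT in
theorem isIso_bcQ_limit (f : cX.pt ⟶ cS.pt) (g : cT.pt ⟶ cS.pt) {Y : Scheme.{u}} (h : Y ⟶ cX.pt) (e : Y ⟶ cT.pt)
    (hf : ∀ a, f ≫ cS.π.app a = cX.π.app a ≫ fN.app a) (hg : ∀ a, g ≫ cS.π.app a = cT.π.app a ≫ gN.app a)
    (c : IsPullback e h g f) [∀ a, PreservesFiniteLimits (EtCoh.pull (eN.app a))]
    [PreservesFiniteLimits (EtCoh.pull e)] (A : Sys Ts cT) (D : A.ColimData) (q : ℕ)
    (hstage : ∀ i : ι, IsIso (EtBC.bcQ (gN.app (op i)) (fN.app (op i)) (hN.app (op i)) (eN.app (op i))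
      (sq (op i)).w q (A.F i))) :
    IsIso (EtBC.bcQ g f h e c.w q A.Finf) := by
  obtain ⟨_, _⟩ := qcqs_limit Ss Ts gN haT haS cS hcS cT hcT g hg
  refine (EtStrictBC.isIso_bcQ_iff_strict f g h e c A.Finf q).1 ?_
  intro x RS _ _ _ _ _ RX _ _ _ _ _ ψ _ hψ PS PX aS bS sqS aX bX sqX m w hm _
  haveI : HenselianLocalRing RS := Hensel.IsStrictHenselization.henselian (R := cS.pt.presheaf.stalk (f.base x))
  haveI : HenselianLocalRing RX := Hensel.IsStrictHenselization.henselian (R := cX.pt.presheaf.stalk x)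
  obtain ⟨θN, hθu, hθc, hθi⟩ := exists_thetaNat fN cX cS f hf x RS RX ψ hψ
  let xs := ptX Xs cX x
  let hxs : ∀ i, (cX.π.app (op i)).base x = xs i := fun _ => rfl
  let ss := ptS fN cX x
  let hss := ptS_eq fN cX cS f hf x
  let uS := specNat Ss cS (f.base x) ss hss RS
  let uX := specNat Xs cX x xs hxs RX
  let sX := Hens2.specOf cX.pt x RX
  let sS := Hens2.specOf cS.pt (f.base x) RS
  have hbS : ∀ a, sS ≫ cS.π.app a = (specCone Ss cS (f.base x) ss hss RS).π.app a ≫ uS.app a :=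
    specNat_fac Ss cS (f.base x) ss hss RS
  have hbX : ∀ a, (sX ≫ f) ≫ cS.π.app a = (specCone Xs cX x xs hxs RX).π.app a ≫ (uX ≫ fN).app a := fun a => by
    refine (Category.assoc _ _ _).trans ((whisker_eq sX (hf a)).trans ((Category.assoc _ _ _).symm.trans ?_))
    exact (eq_whisker (specNat_fac Xs cX x xs hxs RX a) _).trans (Category.assoc _ _ _)
  refine bijective_limit_fibres Ss Ts gN haT haS cS hcS cT hcT g hg
    (BS := specSys Ss cS (f.base x) ss hss RS) (BX := specSys Xs cX x xs hxs RX)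
    (fun a => inferInstanceAs (IsAffine (Spec _))) (fun a => inferInstanceAs (IsAffine (Spec _)))
    uS (uX ≫ fN) θN hθu (isLimitSpecCone Ss (f.base x) ss hss RS hcS) (isLimitSpecCone Xs x xs hxs RX hcX)
    sS hbS (sX ≫ f) hbX (Spec.map (CommRingCat.ofHom ψ)) hθc aS bS sqS aX bX sqX m w hm A D q fun i => ?_
  obtain ⟨θ, hθe, hθloc, hψi⟩ := hθi i
  haveI := hθloc
  haveI := EtFound.pull_preservesFiniteLimits ((pbMap gN uS (uX ≫ fN) θN hθu).app (op i))
  exact (EtStrictBC.isIso_bcQ_iff_strict (fN.app (op i)) (gN.app (op i)) (hN.app (op i)) (eN.app (op i)) (sq (op i))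
    (A.F i) q).2 (hstage i) (xs i) (Ring' Ss ss i) (Ring' Xs xs i) θ hψi _ _ _ _
    (IsPullback.of_hasPullback (gN.app (op i)) (uS.app (op i))) _ _
    (IsPullback.of_hasPullback (gN.app (op i)) (uX.app (op i) ≫ fN.app (op i))) _
    (pbMap_fst gN uS (uX ≫ fN) θN hθu (op i))
    ((pullback.lift_snd _ _ _).trans (whisker_eq _ hθe))

end Final

end Groth.Agent.EtSqLim
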